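import Groth.Agent.Lib.ClosedMod16.Setup

/-! Modules killed by the ideal of a closed ringed subspace are direct images. -/

set_option autoImplicit false
set_option linter.style.haveILetI false
set_option linter.unusedSectionVars false
set_option backward.isDefEq.respectTransparency false
set_option backward.isDefEq.respectTransparency.types false

universe u

open CategoryTheory CategoryTheory.Limits TopologicalSpace Opposite

noncomputable section

namespace Groth.Agent.ClosedMod16

open Groth.Agent.ModFlat16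

variable {X Z : TopCat.{u}} {O : TopCat.Sheaf CommRingCat.{u} X} (i : Z ⟶ X)
  {O_Z : TopCat.Sheaf CommRingCat.{u} Z}
  (c : O ⟶ ((TopologicalSpace.Opens.map i).sheafPushforwardContinuous CommRingCat.{u}
    (Opens.grothendieckTopology X) (Opens.grothendieckTopology Z)).obj O_Z)

/-- A module is killed by the ideal of the subspace. -/
def Killed (G : ModSite.Mod O) : Prop :=
  ∀ (U : Opens X) (a : O.obj.obj (op U)), cm i c U a = 0 → ∀ s : ModSite.sect G U, a • s = 0

variable {i c} {G : ModSite.Mod O}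

theorem Killed.smul_eq (hG : Killed i c G) {U : Opens X} {a a' : O.obj.obj (op U)}
    (h : cm i c U a = cm i c U a') (s : ModSite.sect G U) : a • s = a' • s := by
  rw [← sub_eq_zero, ← sub_smul]
  exact hG U _ (by rw [map_sub, h, sub_self]) s

theorem Killed.eq_zero (hG : Killed i c G) {U : Opens X} (hU : (Opens.map i).obj U = ⊥)
    (s : ModSite.sect G U) : s = 0 := by
  haveI : Subsingleton (O_Z.obj.obj (op ((Opens.map i).obj U))) := by
    rw [hU]
    exact CommRingCat.subsingleton_of_isTerminal (TopCat.Sheaf.isTerminalOfEmpty O_Z)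
  rw [← one_smul (O.obj.obj (op U)) s]
  exact hG U 1 (Subsingleton.elim _ _) s

theorem Killed.isZero_stalk (hG : Killed i c G) (hi : IsClosed (Set.range i)) (x : X)
    (hx : x ∉ Set.range i) : IsZero (CohTop.stalk (ModSite.toAb G) x) := by
  refine (AddCommGrpCat.isZero_iff_subsingleton ..).2 ?_
  refine subsingleton_of_forall_eq 0 fun s => ?_
  obtain ⟨V, hxV, t, rfl⟩ := TopCat.Presheaf.germ_exist (F := (ModSite.toAb G).obj) s
  let W : Opens X := V ⊓ ⟨(Set.range i)ᶜ, hi.isOpen_compl⟩
  have hW : (Opens.map i).obj W = ⊥ := eq_bot_iff.2 fun z hz => absurd (Set.mem_range_self z) hz.2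
  rw [← TopCat.Presheaf.germ_res_apply ((ModSite.toAb G).obj) (homOfLE (inf_le_left : W ≤ V)) x ⟨hxV, hx⟩]
  exact (congrArg _ (hG.eq_zero hW (ss G (inf_le_left : W ≤ V) t))).trans (map_zero _)

variable (i) in
/-- The largest open with given preimage. -/
def jOpen (hi : Topology.IsClosedEmbedding i) (W : Opens Z) : Opens X :=
  ⟨(i '' (W : Set Z)ᶜ)ᶜ, (hi.isClosedMap _ W.isOpen.isClosed_compl).isOpen_compl⟩

theorem preim_jOpen (hi : Topology.IsClosedEmbedding i) (W : Opens Z) :
    (Opens.map i).obj (jOpen i hi W) = W := by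
  ext z
  simp [jOpen, hi.injective.mem_set_image]

theorem le_jOpen (hi : Topology.IsClosedEmbedding i) (U : Opens X) :
    U ≤ jOpen i hi ((Opens.map i).obj U) := by
  rintro x hx ⟨z, hz, rfl⟩
  exact hz hx

theorem jOpen_mono (hi : Topology.IsClosedEmbedding i) {W W' : Opens Z} (h : W' ≤ W) :
    jOpen i hi W' ≤ jOpen i hi W :=
  fun x hx ⟨z, hz, e⟩ => hx ⟨z, fun hz' => hz (h hz'), e⟩

variable (i) in
/-- The functor to the largest open with given preimage. -/
def jFun (hi : Topology.IsClosedEmbedding i) : Opens Z ⥤ Opens X where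
  obj := jOpen i hi
  map f := homOfLE (jOpen_mono hi f.le)

variable (i c) in
/-- The characterisation of the action on the descended module. -/
def Spec (hi : Topology.IsClosedEmbedding i) {W : Opens Z} (b : O_Z.obj.obj (op W))
    (s t : ModSite.sect G (jOpen i hi W)) : Prop :=
  ∀ (V : Opens X) (hV : V ≤ jOpen i hi W) (h : (Opens.map i).obj V ≤ W) (a : O.obj.obj (op V)),
    cm i c V a = rs O_Z h b → a • ss G hV s = ss G hV t

theorem preim_le (hi : Topology.IsClosedEmbedding i) {W : Opens Z} {V : Opens X}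
    (hV : V ≤ jOpen i hi W) : (Opens.map i).obj V ≤ W :=
  (preim_mono i hV).trans (preim_jOpen hi W).le

theorem spec_unique (hi : Topology.IsClosedEmbedding i) (hc : Sheaf.IsLocallySurjective c) {W : Opens Z}
    {b : O_Z.obj.obj (op W)} {s t t' : ModSite.sect G (jOpen i hi W)} (h : Spec i c hi b s t)
    (h' : Spec i c hi b s t') : t = t' := by
  refine ext_locally _ _ fun x hx => ?_
  obtain ⟨V, hV, a, hxV, ha⟩ := exists_lift i c hc (rs O_Z (preim_jOpen hi W).le b) hx
  rw [rs_rs] at ha
  exact ⟨V, hV, hxV, (h V hV _ a ha).symm.trans (h' V hV _ a ha)⟩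

theorem spec_exists (hi : Topology.IsClosedEmbedding i) (hc : Sheaf.IsLocallySurjective c)
    (hG : Killed i c G) {W : Opens Z} (b : O_Z.obj.obj (op W)) (s : ModSite.sect G (jOpen i hi W)) :
    ∃ t, Spec i c hi b s t := by
  have hl : ∀ x : jOpen i hi W, ∃ (V : Opens X) (hV : V ≤ jOpen i hi W) (a : O.obj.obj (op V)),
      x.1 ∈ V ∧ cm i c V a = rs O_Z (preim_le hi hV) b := fun x => by
    obtain ⟨V, hV, a, hxV, ha⟩ := exists_lift i c hc (rs O_Z (preim_jOpen hi W).le b) x.2
    rw [rs_rs] at ha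
    exact ⟨V, hV, a, hxV, ha⟩
  choose V hV a hxV ha using hl
  have agree : ∀ (x : jOpen i hi W) (V' : Opens X) (hV' : V' ≤ jOpen i hi W) (h : (Opens.map i).obj V' ≤ W)
      (a' : O.obj.obj (op V')), cm i c V' a' = rs O_Z h b → ∀ (U : Opens X) (h₁ : U ≤ V x) (h₂ : U ≤ V'),
      ss G h₁ (a x • ss G (hV x) s) = ss G h₂ (a' • ss G hV' s) := by
    intro x V' hV' h a' ha' U h₁ h₂
    rw [ss_smul, ss_smul, ss_ss, ss_ss]
    refine hG.smul_eq ?_ _
    rw [cm_rs, cm_rs, ha x, ha', rs_rs, rs_rs]
  obtain ⟨t, ht⟩ := glue (F := G) V hV (fun x hx => ⟨⟨x, hx⟩, hxV ⟨x, hx⟩⟩)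
    (fun x => a x • ss G (hV x) s) (fun k l => agree k (V l) (hV l) _ (a l) (ha l) _ _ _)
  refine ⟨t, fun V' hV' h a' ha' => ext_locally _ _ fun x hx => ?_⟩
  refine ⟨V ⟨x, hV' hx⟩ ⊓ V', inf_le_right, ⟨hxV _, hx⟩, ?_⟩
  rw [← agree ⟨x, hV' hx⟩ V' hV' h a' ha' _ inf_le_left inf_le_right, ← ht, ss_ss, ss_ss]

/-- The action on the descended module. -/
def act (hi : Topology.IsClosedEmbedding i) (hc : Sheaf.IsLocallySurjective c) (hG : Killed i c G)
    {W : Opens Z} (b : O_Z.obj.obj (op W)) (s : ModSite.sect G (jOpen i hi W)) :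
    ModSite.sect G (jOpen i hi W) :=
  (spec_exists hi hc hG b s).choose

theorem act_spec (hi : Topology.IsClosedEmbedding i) (hc : Sheaf.IsLocallySurjective c) (hG : Killed i c G)
    {W : Opens Z} (b : O_Z.obj.obj (op W)) (s : ModSite.sect G (jOpen i hi W)) :
    Spec i c hi b s (act hi hc hG b s) :=
  (spec_exists hi hc hG b s).choose_spec

theorem act_eq (hi : Topology.IsClosedEmbedding i) (hc : Sheaf.IsLocallySurjective c) (hG : Killed i c G)
    {W : Opens Z} {b : O_Z.obj.obj (op W)} {s t : ModSite.sect G (jOpen i hi W)} (h : Spec i c hi b s t) :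
    act hi hc hG b s = t :=
  spec_unique hi hc (act_spec hi hc hG b s) h

/-- The module structure on the descended sections. -/
@[implicit_reducible]
def modW (hi : Topology.IsClosedEmbedding i) (hc : Sheaf.IsLocallySurjective c) (hG : Killed i c G)
    (W : Opens Z) : Module (O_Z.obj.obj (op W)) (ModSite.sect G (jOpen i hi W)) where
  smul b s := act hi hc hG b s
  one_smul s := act_eq hi hc hG fun V hV h a ha => by
    rw [hG.smul_eq (a' := 1) (by rw [ha, map_one, map_one]), one_smul]
  mul_smul b b' s := by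
    refine spec_unique hi hc (act_spec hi hc hG (b * b') s) fun V hV h a ha => ext_locally _ _ fun x hx => ?_
    obtain ⟨V₁, h₁, a₁, hx₁, ha₁⟩ := exists_lift i c hc (rs O_Z h b) hx
    obtain ⟨V₂, h₂, a₂, hx₂, ha₂⟩ := exists_lift i c hc (rs O_Z ((preim_mono i h₁).trans h) b') hx₁
    rw [rs_rs] at ha₁ ha₂
    have e : cm i c V₂ (rs O (h₂.trans h₁) a) = cm i c V₂ (rs O h₂ a₁ * a₂) := by
      rw [map_mul, cm_rs, cm_rs, ha, ha₁, ha₂, rs_rs, rs_rs, map_mul]
    refine ⟨V₂, h₂.trans h₁, hx₂, ?_⟩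
    rw [ss_smul, ss_ss, ss_ss, hG.smul_eq e, mul_smul,
      act_spec hi hc hG b' s V₂ _ _ a₂ ha₂]
    refine act_spec hi hc hG b (act hi hc hG b' s) V₂ _ ((preim_mono i (h₂.trans h₁)).trans h) _ ?_
    rw [cm_rs, ha₁, rs_rs]
  smul_zero b := act_eq hi hc hG fun V hV h a ha => by simp only [map_zero, smul_zero]
  smul_add b s s' := act_eq hi hc hG fun V hV h a ha => by
    rw [map_add, map_add, smul_add, act_spec hi hc hG b s V hV h a ha, act_spec hi hc hG b s' V hV h a ha]
    rfl
  add_smul b b' s := by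
    refine spec_unique hi hc (act_spec hi hc hG (b + b') s) fun V hV h a ha => ext_locally _ _ fun x hx => ?_
    obtain ⟨V₁, h₁, a₁, hx₁, ha₁⟩ := exists_lift i c hc (rs O_Z h b) hx
    rw [rs_rs] at ha₁
    refine ⟨V₁, h₁, hx₁, ?_⟩
    rw [ss_smul, ss_ss, ss_ss, map_add]
    have e : rs O h₁ a = a₁ + (rs O h₁ a - a₁) := (add_sub_cancel _ _).symm
    rw [e, add_smul, act_spec hi hc hG b s V₁ _ _ a₁ ha₁]
    refine congrArg (_ + ·) (act_spec hi hc hG b' s V₁ _ ((preim_mono i h₁).trans h) _ ?_)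
    rw [map_sub, cm_rs, ha, ha₁, rs_rs, map_add, add_sub_cancel_left]
  zero_smul s := act_eq hi hc hG fun V hV h a ha => by
    rw [hG.smul_eq (a' := 0) (by rw [ha, map_zero, map_zero]), zero_smul, map_zero]

variable (G) in
/-- The underlying presheaf of the descended module. -/
abbrev descAb (hi : Topology.IsClosedEmbedding i) : (Opens Z)ᵒᵖ ⥤ AddCommGrpCat.{u} :=
  (jFun i hi).op ⋙ (ModSite.toAb G).obj

theorem descAb_map_act (hi : Topology.IsClosedEmbedding i) (hc : Sheaf.IsLocallySurjective c)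
    (hG : Killed i c G) {W W' : Opens Z} (hW : W' ≤ W) (b : O_Z.obj.obj (op W))
    (s : ModSite.sect G (jOpen i hi W)) :
    ss G (jOpen_mono hi hW) (act hi hc hG b s) = act hi hc hG (rs O_Z hW b) (ss G (jOpen_mono hi hW) s) := by
  refine (act_eq hi hc hG fun V hV h a ha => ?_).symm
  rw [ss_ss, ss_ss]
  exact act_spec hi hc hG b s V _ (h.trans hW) a (by rw [ha, rs_rs])

theorem isIso_unit_toAb (hi : Topology.IsClosedEmbedding i) (hG : Killed i c G) :
    IsIso ((TopCat.Sheaf.pullbackPushforwardAdjunction AddCommGrpCat.{u} i).unit.app (ModSite.toAb G)) :=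
  Groth.Agent.CohFound16.isIso_unit i hi _ fun x hx => hG.isZero_stalk hi.isClosed_range x hx

/-- The sheaf of groups seen through the subspace. -/
def unitObjIso (hi : Topology.IsClosedEmbedding i) (hG : Killed i c G) :
    (ModSite.toAb G).obj ≅ (Opens.map i).op ⋙ ((CohTop.pull i).obj (ModSite.toAb G)).obj :=
  haveI := isIso_unit_toAb hi hG
  (sheafToPresheaf _ _).mapIso
    (asIso ((TopCat.Sheaf.pullbackPushforwardAdjunction AddCommGrpCat.{u} i).unit.app (ModSite.toAb G)))

theorem isSheaf_descAb (hi : Topology.IsClosedEmbedding i) (hG : Killed i c G) :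
    Presheaf.IsSheaf (Opens.grothendieckTopology Z) (descAb G hi) := by
  let P := (CohTop.pull i).obj (ModSite.toAb G)
  let e : jFun i hi ⋙ Opens.map i ≅ 𝟭 (Opens Z) :=
    NatIso.ofComponents (fun W => eqToIso (preim_jOpen hi W)) fun _ => Subsingleton.elim _ _
  let e' : descAb G hi ≅ P.obj :=
    Functor.isoWhiskerLeft (jFun i hi).op (unitObjIso hi hG) ≪≫
      Functor.isoWhiskerRight (NatIso.op e).symm P.obj
  exact (Presheaf.isSheaf_of_iso_iff e').2 P.property

theorem isIso_ss_le_jOpen (hi : Topology.IsClosedEmbedding i) (hG : Killed i c G) (U : Opens X) :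
    IsIso ((ModSite.toAb G).obj.map (homOfLE (le_jOpen hi U)).op) := by
  haveI : IsIso ((Opens.map i).map (homOfLE (le_jOpen hi U))) :=
    ⟨homOfLE (preim_jOpen hi _).le, Subsingleton.elim _ _, Subsingleton.elim _ _⟩
  haveI : IsIso (((Opens.map i).op ⋙ ((CohTop.pull i).obj (ModSite.toAb G)).obj).map
      (homOfLE (le_jOpen hi U)).op) :=
    show IsIso (((CohTop.pull i).obj (ModSite.toAb G)).obj.map ((Opens.map i).map (homOfLE (le_jOpen hi U))).op)
      from inferInstance
  exact (NatIso.isIso_map_iff (unitObjIso hi hG) _).2 inferInstance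

/-- The descended module. -/
def desc (hi : Topology.IsClosedEmbedding i) (hc : Sheaf.IsLocallySurjective c) (hG : Killed i c G) :
    ModSite.Mod O_Z :=
  letI : ∀ W : (Opens Z)ᵒᵖ, Module ((ModSite.ringSh O_Z).obj.obj W) ((descAb G hi).obj W) := fun W =>
    modW hi hc hG W.unop
  { val := PresheafOfModules.ofPresheaf (R := (ModSite.ringSh O_Z).obj) (descAb G hi)
      fun W W' f b s => descAb_map_act hi hc hG f.unop.le b s
    isSheaf := isSheaf_descAb hi hG }

/-- A module killed by the ideal is a direct image. -/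
theorem mem_essImage (hi : Topology.IsClosedEmbedding i) (hc : Sheaf.IsLocallySurjective c) (hG : Killed i c G) :
    (gm i c).push.essImage G := by
  let M := desc hi hc hG
  let φ : (ModSite.toAb ((gm i c).push.obj M)).obj ⟶ (ModSite.toAb G).obj :=
    { app := fun U => (ModSite.toAb G).obj.map (homOfLE (le_jOpen hi U.unop)).op
      naturality := fun U V f =>
        ((ModSite.toAb G).obj.map_comp _ _).symm.trans
          ((congrArg (ModSite.toAb G).obj.map (Subsingleton.elim _ _)).trans ((ModSite.toAb G).obj.map_comp _ _)) }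
  let θ : (gm i c).push.obj M ⟶ G :=
    ⟨PresheafOfModules.homMk φ fun U a s => by
      obtain ⟨U, rfl⟩ : ∃ U', U = op U' := ⟨U.unop, rfl⟩
      exact (act_spec hi hc hG (cm i c U a) s U (le_jOpen hi U) le_rfl a
        (rs_self le_rfl (cm i c U a)).symm).symm⟩
  haveI : IsIso ((SheafOfModules.toSheaf.{u} (ModSite.ringSh O)).map θ) := by
    haveI : ∀ U : (Opens X)ᵒᵖ, IsIso (φ.app U) := fun U => isIso_ss_le_jOpen hi hG U.unop
    haveI : IsIso φ := NatIso.isIso_of_isIso_app φ
    haveI : IsIso ((sheafToPresheaf _ _).map ((SheafOfModules.toSheaf.{u} (ModSite.ringSh O)).map θ)) :=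
      show IsIso φ from inferInstance
    exact isIso_of_fully_faithful (sheafToPresheaf _ _) _
  haveI : IsIso θ := isIso_of_reflects_iso θ (SheafOfModules.toSheaf.{u} (ModSite.ringSh O))
  exact ⟨M, ⟨asIso θ⟩⟩

/-- The essential image of direct image along a closed ringed subspace. -/
theorem essImage_push_iff (hi : Topology.IsClosedEmbedding i) (hc : Sheaf.IsLocallySurjective c)
    (G : ModSite.Mod O) : (gm i c).push.essImage G ↔ Killed i c G :=
  ⟨fun ⟨_, ⟨e⟩⟩ _ _ ha s => smul_eq_zero_of_iso_push i c e ha s, mem_essImage hi hc⟩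

end Groth.Agent.ClosedMod16
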