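import Groth.Agent.Lib.ClosedMod16.Setup
import Groth.Agent.Lib.ModFlat16.LocFT

/-! Finite generation on ringed spaces, pointwise, and along closed embeddings. -/

set_option autoImplicit false
set_option linter.style.haveILetI false
set_option linter.unusedSectionVars false
set_option backward.isDefEq.respectTransparency false
set_option backward.isDefEq.respectTransparency.types false

universe u

open CategoryTheory CategoryTheory.Limits TopologicalSpace Opposite

noncomputable section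

namespace Groth.Agent.ClosedMod16

open Groth.Agent.ModFlat16

variable {X : TopCat.{u}} {O : TopCat.Sheaf CommRingCat.{u} X}

/-- Membership in the topology of opens, pointwise. -/
theorem covering_of_forall {U : Opens X} (Q : Opens X → Prop) (hres : ∀ ⦃V V' : Opens X⦄, V' ≤ V → Q V → Q V')
    (h : ∀ x ∈ U, ∃ V ≤ U, x ∈ V ∧ Q V) :
    ∃ S ∈ Opens.grothendieckTopology X U, ∀ ⦃V : Opens X⦄ (k : V ⟶ U), S k → Q V := by
  refine ⟨⟨fun V _ => Q V, fun hV g => hres g.le hV⟩, fun x hx => ?_, fun V k hk => hk⟩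
  obtain ⟨V, hV, hxV, hQ⟩ := h x hx
  exact ⟨V, homOfLE hV, hQ, hxV⟩

/-- Finite type, pointwise. -/
theorem isFiniteType_of_forall_point {M : ModSite.Mod O} (h : ∀ x : X, ∃ V : Opens X, x ∈ V ∧ HasGens M V) :
    SheafOfModules.IsFiniteType (R := ModSite.ringSh O) M :=
  isFiniteType_of_covd fun U => covering_of_forall (HasGens M) (fun _ _ h hQ => hQ.res (homOfLE h)) fun x hx => by
    obtain ⟨V, hxV, hV⟩ := h x
    exact ⟨V ⊓ U, inf_le_right, ⟨hxV, hx⟩, hV.res (homOfLE inf_le_left)⟩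

/-- A module of finite type is finitely generated around each point. -/
theorem exists_hasGens (M : ModSite.Mod O) [SheafOfModules.IsFiniteType (R := ModSite.ringSh O) M] (x : X) :
    ∃ V : Opens X, x ∈ V ∧ HasGens M V := by
  obtain ⟨S, hS, h⟩ := covd_hasGens (M := M) ⊤
  obtain ⟨V, k, hk, hxV⟩ := hS x trivial
  exact ⟨V, hxV, h k hk⟩

/-- Generation, pointwise. -/
theorem gens_iff {M : ModSite.Mod O} {U : Opens X} {ι : Type u} [Fintype ι] (s : ι → ModSite.sect M U) :
    Gens M U s ↔ ∀ (V : Opens X) (hV : V ≤ U) (y : ModSite.sect M V), ∀ x ∈ V, ∃ (W : Opens X) (hW : W ≤ V),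
      x ∈ W ∧ ∃ c : ι → O.obj.obj (op W), ss M hW y = ∑ k, c k • ss M (hW.trans hV) (s k) := by
  refine ⟨fun hs V hV y x hx => ?_, fun h => gens_mk s fun {V} k y => ?_⟩
  · obtain ⟨S, hS, h⟩ := gens_apply hs (homOfLE hV) y
    obtain ⟨W, l, hl, hxW⟩ := hS x hx
    exact ⟨W, l.le, hxW, h l hl⟩
  · let Q : Opens X → Prop := fun W => ∀ hW : W ≤ V,
      ∃ c : ι → O.obj.obj (op W), ss M hW y = ∑ j, c j • ss M (hW.trans k.le) (s j)
    have hres : ∀ ⦃W W' : Opens X⦄, W' ≤ W → (W ≤ V ∧ Q W) → (W' ≤ V ∧ Q W') := by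
      rintro W W' hle ⟨hWV, hQ⟩
      obtain ⟨c, hc⟩ := hQ hWV
      refine ⟨hle.trans hWV, fun hW => ⟨fun j => rs O hle (c j), ?_⟩⟩
      have h2 : ss M hle (ss M hWV y) = ∑ j, rs O hle (c j) • ss M hle (ss M (hWV.trans k.le) (s j)) := by
        rw [hc, map_sum]
        exact Finset.sum_congr rfl fun j _ => ss_smul hle _ _
      simpa only [ss_ss] using h2
    obtain ⟨S, hS, hS'⟩ := covering_of_forall (fun W => W ≤ V ∧ Q W) hres fun x hx => by
      obtain ⟨W, hW, hxW, hc⟩ := h V k.le y x hx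
      exact ⟨W, hW, hxW, hW, fun _ => hc⟩
    exact ⟨S, hS, fun W l hl => (hS' l hl).2 l.le⟩

variable {Z : TopCat.{u}} (i : Z ⟶ X) {O_Z : TopCat.Sheaf CommRingCat.{u} Z}
  (c : O ⟶ ((TopologicalSpace.Opens.map i).sheafPushforwardContinuous CommRingCat.{u}
    (Opens.grothendieckTopology X) (Opens.grothendieckTopology Z)).obj O_Z)

theorem push_sect_eq_zero {F : ModSite.Mod O_Z} {U : Opens X} (hU : (Opens.map i).obj U = ⊥)
    (s : ModSite.sect ((gm i c).push.obj F) U) : s = 0 := by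
  refine ext_locally (F := F) (U := (Opens.map i).obj U) s 0 fun z hz => ?_
  rw [hU] at hz
  exact absurd hz (Set.notMem_empty z)

/-- Finite type descends along a closed ringed subspace. -/
theorem isFiniteType_of_push (hi : Topology.IsInducing i) (F : ModSite.Mod O_Z)
    [SheafOfModules.IsFiniteType (R := ModSite.ringSh O) ((gm i c).push.obj F)] :
    SheafOfModules.IsFiniteType (R := ModSite.ringSh O_Z) F := by
  refine isFiniteType_of_forall_point fun z => ?_
  obtain ⟨V, hzV, ι, _, s, hs⟩ := exists_hasGens ((gm i c).push.obj F) (i z)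
  refine ⟨(Opens.map i).obj V, hzV, ι, inferInstance, fun k => s k, (gens_iff _).2 fun W hW y w hw => ?_⟩
  obtain ⟨O', hO', hOW⟩ := hi.isOpen_iff.1 W.isOpen
  let U : Opens X := V ⊓ ⟨O', hO'⟩
  have hUW : (Opens.map i).obj U ≤ W := fun w' hw' => by
    show w' ∈ (W : Set Z)
    rw [← hOW]
    exact hw'.2
  have hwU : i w ∈ U := ⟨hW hw, show w ∈ i ⁻¹' O' by rw [hOW]; exact hw⟩
  obtain ⟨U', hU', hwU', a, ha⟩ := (gens_iff s).1 hs U inf_le_left (ss F hUW y) (i w) hwU
  refine ⟨(Opens.map i).obj U', (preim_mono i hU').trans hUW, hwU', fun k => cm i c U' (a k), ?_⟩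
  refine Eq.trans ?_ ha
  exact (ss_ss hUW (preim_mono i hU') y).symm

/-- Finite type ascends along a closed ringed subspace. -/
theorem isFiniteType_push (hi : Topology.IsClosedEmbedding i) (hc : Sheaf.IsLocallySurjective c)
    (F : ModSite.Mod O_Z) [SheafOfModules.IsFiniteType (R := ModSite.ringSh O_Z) F] :
    SheafOfModules.IsFiniteType (R := ModSite.ringSh O) ((gm i c).push.obj F) := by
  classical
  let T : Opens X := ⟨(Set.range i)ᶜ, hi.isClosed_range.isOpen_compl⟩
  have hT : ∀ U : Opens X, (Opens.map i).obj (U ⊓ T) = ⊥ := fun U =>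
    eq_bot_iff.2 fun w hw => absurd (Set.mem_range_self w) hw.2
  refine isFiniteType_of_forall_point fun x => ?_
  by_cases hx : x ∈ Set.range i
  · obtain ⟨z, rfl⟩ := hx
    obtain ⟨W, hzW, ι, _, s, hs⟩ := exists_hasGens F z
    obtain ⟨O', hO', hOW⟩ := hi.isInducing.isOpen_iff.1 W.isOpen
    let V : Opens X := ⟨O', hO'⟩
    have e : (Opens.map i).obj V = W := Opens.ext hOW
    refine ⟨V, show z ∈ i ⁻¹' O' by rw [hOW]; exact hzW, ι, inferInstance, fun k => ss F e.le (s k),
      (gens_iff _).2 fun U hU y x hxU => ?_⟩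
    by_cases hxr : x ∈ Set.range i
    · obtain ⟨w, rfl⟩ := hxr
      obtain ⟨W', hW', hwW', b, hb⟩ := (gens_iff s).1 hs ((Opens.map i).obj U)
        ((preim_mono i hU).trans e.le) y w hxU
      obtain ⟨O'', hO'', hOW'⟩ := hi.isInducing.isOpen_iff.1 W'.isOpen
      let U₀ : Opens X := U ⊓ ⟨O'', hO''⟩
      have hU₀W : (Opens.map i).obj U₀ ≤ W' := fun w' hw' => by
        show w' ∈ (W' : Set Z)
        rw [← hOW']
        exact hw'.2
      have hwU₀ : i w ∈ U₀ := ⟨hxU, show w ∈ i ⁻¹' O'' by rw [hOW']; exact hwW'⟩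
      choose V' hV' a' hw' ha' using fun k => exists_lift i c hc (rs O_Z hU₀W (b k)) hwU₀
      let U₁ : Opens X := ⟨(U₀ : Set X) ∩ ⋂ k, (V' k : Set X),
        U₀.isOpen.inter (isOpen_iInter_of_finite fun k => (V' k).isOpen)⟩
      have h₁ : U₁ ≤ U₀ := fun _ h => h.1
      have h₂ : ∀ k, U₁ ≤ V' k := fun k _ h => Set.mem_iInter.1 h.2 k
      refine ⟨U₁, h₁.trans inf_le_left, ⟨hwU₀, Set.mem_iInter.2 hw'⟩, fun k => rs O (h₂ k) (a' k), ?_⟩
      have hsum : ss F ((preim_mono i h₁).trans hU₀W) (ss F hW' y) =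
          ∑ k, rs O_Z ((preim_mono i h₁).trans hU₀W) (b k) •
            ss F ((preim_mono i h₁).trans hU₀W) (ss F (hW'.trans ((preim_mono i hU).trans e.le)) (s k)) := by
        rw [hb, map_sum]
        exact Finset.sum_congr rfl fun k _ => ss_smul _ _ _
      rw [ss_ss] at hsum
      refine hsum.trans (Finset.sum_congr rfl fun k _ => ?_)
      show _ = cm i c U₁ (rs O (h₂ k) (a' k)) • ss F (preim_mono i ((h₁.trans inf_le_left).trans hU)) (ss F e.le (s k))
      rw [ss_ss, ss_ss, cm_rs, ha' k, rs_rs, rs_rs]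
    · refine ⟨U ⊓ T, inf_le_left, ⟨hxU, hxr⟩, 0, ?_⟩
      exact (push_sect_eq_zero i c (hT U) _).trans (push_sect_eq_zero i c (hT U) _).symm
  · refine ⟨⊤ ⊓ T, ⟨trivial, hx⟩, PEmpty, inferInstance, PEmpty.elim, (gens_iff _).2 fun U hU y x hxU =>
      ⟨U, le_rfl, hxU, PEmpty.elim, ?_⟩⟩
    have hU' : (Opens.map i).obj U = ⊥ := eq_bot_iff.2 ((preim_mono i hU).trans (hT ⊤).le)
    exact (push_sect_eq_zero i c hU' _).trans (push_sect_eq_zero i c hU' _).symm

end Groth.Agent.ClosedMod16
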