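import Groth.Agent.Lib.ModFlat16.StalkFree
import Groth.Agent.Lib.ModFlat16.Elements
import Groth.Agent.Lib.ModFlat16.Basis

/-! Invertible modules on a ringed space with local stalks, through a pairing. -/

set_option autoImplicit false
set_option linter.style.haveILetI false
set_option linter.unusedSectionVars false
set_option backward.isDefEq.respectTransparency false
set_option backward.isDefEq.respectTransparency.types false

universe u

open CategoryTheory CategoryTheory.Limits TopologicalSpace Opposite MonoidalCategory TensorProduct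

noncomputable section

namespace Groth.Agent.InvPair16

open Groth.Agent.ModFlat16

variable {X : TopCat.{u}} {O : TopCat.Sheaf CommRingCat.{u} X} {L N : ModSite.Mod O}
  (θ : ((ModSite.tensorBi O).obj L).obj N ≅ ModSite.unit O)

/-- The map from the presheaf tensor product to functions. -/
abbrev toFun' {V : Opens X} (z : (Pt L N).obj (op V)) : O.obj.obj (op V) :=
  θ.hom.val.app (op V) ((eta L N).app (op V) z)

/-- The pairing. -/
abbrev pair {V : Opens X} (a : ModSite.sect L V) (b : ModSite.sect N V) : O.obj.obj (op V) := toFun' θ (tm a b)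

theorem toFun'_map {U V : Opens X} (g : V ⟶ U) (z : (Pt L N).obj (op U)) :
    toFun' θ ((Pt L N).map g.op z) = rmap O g (toFun' θ z) :=
  PresheafOfModules.naturality_apply (eta L N ≫ (ModSite.toPre O).map θ.hom) g.op z

theorem pair_smap {U V : Opens X} (g : V ⟶ U) (a : ModSite.sect L U) (b : ModSite.sect N U) :
    pair θ (smap L g a) (smap N g b) = rmap O g (pair θ a b) :=
  (congrArg (toFun' θ) (map_tm (X := L) (F := N) g a b).symm).trans (toFun'_map θ g _)

theorem toFun'_add {V : Opens X} (z z' : (Pt L N).obj (op V)) : toFun' θ (z + z') = toFun' θ z + toFun' θ z' := by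
  exact (congrArg _ (map_add _ z z')).trans (map_add _ _ _)

theorem toFun'_sum {V : Opens X} {ι : Type*} [Fintype ι] (z : ι → (Pt L N).obj (op V)) :
    toFun' θ (∑ k, z k) = ∑ k, toFun' θ (z k) :=
  map_sum (AddMonoidHom.mk' (toFun' θ) (toFun'_add θ)) z _

theorem toFun'_smul {V : Opens X} (r : O.obj.obj (op V)) (z : (Pt L N).obj (op V)) :
    toFun' θ (r • z) = r * toFun' θ z :=
  (congrArg _ (((eta L N).app (op V)).hom.map_smul r z)).trans ((θ.hom.val.app (op V)).hom.map_smul r _)

theorem pair_smul_left {V : Opens X} (r : O.obj.obj (op V)) (a : ModSite.sect L V) (b : ModSite.sect N V) :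
    pair θ (r • a) b = r * pair θ a b :=
  (congrArg (toFun' θ) (show tm (r • a) b = r • tm a b from TensorProduct.smul_tmul' r a b)).trans (toFun'_smul θ r _)

theorem pair_smul_right {V : Opens X} (r : O.obj.obj (op V)) (a : ModSite.sect L V) (b : ModSite.sect N V) :
    pair θ a (r • b) = r * pair θ a b :=
  (congrArg (toFun' θ) (tm_smul r a b).symm).trans (pair_smul_left θ r a b)

theorem pair_add_left {V : Opens X} (a a' : ModSite.sect L V) (b : ModSite.sect N V) :
    pair θ (a + a') b = pair θ a b + pair θ a' b :=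
  (congrArg (toFun' θ) (tm_add_left a a' b)).trans (toFun'_add θ _ _)

theorem pair_add_right {V : Opens X} (a : ModSite.sect L V) (b b' : ModSite.sect N V) :
    pair θ a (b + b') = pair θ a b + pair θ a b' :=
  (congrArg (toFun' θ) (tm_add_right a b b')).trans (toFun'_add θ _ _)

theorem toFun'_injective {V : Opens X} {z : (Pt L N).obj (op V)} (h : toFun' θ z = 0) :
    (eta L N).app (op V) z = 0 := by
  have h1 : θ.inv.val.app (op V) (θ.hom.val.app (op V) ((eta L N).app (op V) z)) = (eta L N).app (op V) z :=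
    congrArg (fun q : ((ModSite.tensorBi O).obj L).obj N ⟶ ((ModSite.tensorBi O).obj L).obj N =>
      q.val.app (op V) ((eta L N).app (op V) z)) θ.hom_inv_id
  rw [← h1]
  exact (congrArg _ h).trans (map_zero _)

theorem eq_zero_of_pair_eq_zero {V : Opens X} (s₀ : ModSite.sect L V) (t₀ : ModSite.sect N V)
    (h₀ : pair θ s₀ t₀ = 1) (c : ModSite.sect L V) (hc : pair θ c t₀ = 0) : c = 0 := by
  obtain ⟨S, hS, hS'⟩ := eta_locally_injective (X := L) (F := N) (tm c t₀) 0 ((toFun'_injective θ hc).trans (map_zero _).symm)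
  refine eq_of_locally (M := L) c 0 S hS fun W g hg => ?_
  let B : ModSite.sect L W →ₗ[O.obj.obj (op W)] ModSite.sect N W →ₗ[O.obj.obj (op W)] ModSite.sect L W :=
    letI : Module (O.obj.obj (op W)) (ModSite.sect L W) :=
      inferInstanceAs (Module ((ModSite.ringSh O).obj.obj (op W)) (L.val.obj (op W)))
    letI : Module (O.obj.obj (op W)) (ModSite.sect N W) :=
      inferInstanceAs (Module ((ModSite.ringSh O).obj.obj (op W)) (N.val.obj (op W)))
    LinearMap.mk₂ (O.obj.obj (op W)) (fun a b => pair θ (smap L g s₀) b • a)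
      (fun a a' b => smul_add _ a a')
      (fun r a b => smul_comm _ r a)
      (fun a b b' => by rw [pair_add_right, add_smul])
      (fun r a b => by rw [pair_smul_right, mul_smul])
  have h1 : (Pt L N).map g.op (tm c t₀) = 0 := (hS' g hg).trans (map_zero _)
  rw [map_tm] at h1
  have h2 : B (smap L g c) (smap N g t₀) = 0 := (congrArg (TensorProduct.lift B) h1).trans (map_zero _)
  have h3 : pair θ (smap L g s₀) (smap N g t₀) • smap L g c = 0 := h2
  rw [pair_smap, h₀, map_one] at h3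
  exact ((one_smul _ _).symm.trans h3).trans (map_zero (smap L g)).symm

theorem eq_pair_smul {V : Opens X} (s₀ : ModSite.sect L V) (t₀ : ModSite.sect N V) (h₀ : pair θ s₀ t₀ = 1)
    {W : Opens X} (g : W ⟶ V) (a : ModSite.sect L W) :
    a = pair θ a (smap N g t₀) • smap L g s₀ := by
  have h1 : pair θ (smap L g s₀) (smap N g t₀) = 1 := by rw [pair_smap, h₀, map_one]
  refine sub_eq_zero.1 (eq_zero_of_pair_eq_zero θ _ _ h1 _ ?_)
  rw [sub_eq_add_neg, pair_add_left, ← neg_one_smul (O.obj.obj (op W)) (pair θ a (smap N g t₀) • smap L g s₀),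
    pair_smul_left, pair_smul_left, h1, mul_one, neg_one_mul, add_neg_cancel]

/-- A pair with pairing one near each point. -/
theorem exists_pair_eq_one (hO : ∀ x : X, IsLocalRing (ModSite.stalkRing (pt x) O)) (x : X) :
    ∃ V : Opens X, x ∈ V ∧ ∃ (s₀ : ModSite.sect L V) (t₀ : ModSite.sect N V), pair θ s₀ t₀ = 1 := by
  classical
  let σ : ModSite.sect (((ModSite.tensorBi O).obj L).obj N) (⊤ : Opens X) :=
    θ.inv.val.app (op ⊤) (1 : O.obj.obj (op ⊤))
  obtain ⟨S, hS, hS'⟩ := eta_locally_surjective (X := L) (F := N) σ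
  obtain ⟨V, f, hf, hxV⟩ := hS x trivial
  obtain ⟨z, hz⟩ := hS' f hf
  have hz1 : toFun' θ z = 1 := by
    show θ.hom.val.app (op V) ((eta L N).app (op V) z) = (1 : O.obj.obj (op V))
    rw [hz]
    refine (PresheafOfModules.naturality_apply θ.hom.val f.op σ).trans ?_
    refine (congrArg _ (congrArg (fun q : ModSite.unit O ⟶ ModSite.unit O => q.val.app (op ⊤) (1 : O.obj.obj (op ⊤)))
      θ.inv_hom_id)).trans ?_
    exact map_one (O.obj.map f.op).hom
  obtain ⟨l, a, b, rfl⟩ := exists_eq_sum_tm z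
  rw [toFun'_sum] at hz1
  haveI := hO x
  have hg : ∑ k, ModSite.germRing (pt x) (O := O) V (mk hxV) (pair θ (a k) (b k)) = 1 := by
    rw [← map_one ((pt x).toPresheafFiber V (mk hxV) O.obj).hom, ← hz1]
    exact (map_sum ((pt x).toPresheafFiber V (mk hxV) O.obj).hom _ _).symm
  obtain ⟨k, hk⟩ : ∃ k, IsUnit (ModSite.germRing (pt x) (O := O) V (mk hxV) (pair θ (a k) (b k))) := by
    by_contra hne
    simp only [not_exists] at hne
    have : (1 : ModSite.stalkRing (pt x) O) ∈ IsLocalRing.maximalIdeal (ModSite.stalkRing (pt x) O) := by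
      rw [← hg]
      exact Ideal.sum_mem _ fun k _ => hne k
    exact (IsLocalRing.maximalIdeal.isMaximal _).ne_top ((Ideal.eq_top_iff_one _).2 this)
  obtain ⟨u, hu⟩ := hk.exists_left_inv
  obtain ⟨Y, y, r, hr⟩ := (pt x).toPresheafFiber_jointly_surjective (P := O.obj) u
  let W : Opens X := Y ⊓ V
  have hxW : x ∈ W := ⟨y.down.down, hxV⟩
  let gY : W ⟶ Y := homOfLE inf_le_left
  let gV : W ⟶ V := homOfLE inf_le_right
  have hprod : ∀ _ : Unit, ModSite.germRing (pt x) (O := O) W (mk hxW) (rmap O gY r * rmap O gV (pair θ (a k) (b k))) =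
      ModSite.germRing (pt x) (O := O) W (mk hxW) 1 := fun _ => by
    refine (map_mul ((pt x).toPresheafFiber W (mk hxW) O.obj).hom _ _).trans ?_
    refine Eq.trans ?_ (map_one ((pt x).toPresheafFiber W (mk hxW) O.obj).hom).symm
    refine Eq.trans ?_ hu
    exact congrArg₂ (· * ·) ((germRing_rmap (pt x) gY (mk hxW) r).trans hr) (germRing_rmap (pt x) gV (mk hxW) _)
  obtain ⟨W', g', w', -, hW'⟩ := exists_nbhd_eqRing (pt x) W (mk hxW) _ _ hprod
  refine ⟨W', w'.down.down, smap L (g' ≫ gV) (a k), rmap O (g' ≫ gY) r • smap N (g' ≫ gV) (b k), ?_⟩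
  rw [pair_smul_right, pair_smap]
  have h := hW' ()
  rw [map_mul, map_one, ← rmap_comp, ← rmap_comp] at h
  exact h

/-- The invertibility of the germ of the coefficient decides the generating locus. -/
theorem germ_notMem_iff (hO : ∀ x : X, IsLocalRing (ModSite.stalkRing (pt x) O)) {V : Opens X}
    (s₀ : ModSite.sect L V) (t₀ : ModSite.sect N V) (h₀ : pair θ s₀ t₀ = 1) (s : ModSite.sect L V)
    (x : X) (v : (pt x).fiber.obj V) :
    (ModSite.germ (pt x) L V v s ∉ (@IsLocalRing.maximalIdeal (ModSite.stalkRing (pt x) O) _ (hO x)) •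
      (⊤ : Submodule (ModSite.stalkRing (pt x) O) (ModSite.stalkAb (pt x) L)) ↔
        IsUnit (ModSite.germRing (pt x) (O := O) V v (pair θ s t₀))) ∧
    (IsUnit (ModSite.germRing (pt x) (O := O) V v (pair θ s t₀)) →
      Function.Bijective fun r : ModSite.stalkRing (pt x) O => r • ModSite.germ (pt x) L V v s) := by
  haveI := hO x
  set e := ModSite.germ (pt x) L V v s₀ with he
  set f := ModSite.germRing (pt x) (O := O) V v (pair θ s t₀) with hf
  have hgen : ∀ m : ModSite.stalkAb (pt x) L, ∃ r : ModSite.stalkRing (pt x) O, m = r • e := fun m => by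
    obtain ⟨Y, y, a, rfl⟩ := (pt x).toPresheafFiber_jointly_surjective (P := (ModSite.toAb L).obj) m
    have hxW : x ∈ Y ⊓ V := ⟨y.down.down, v.down.down⟩
    let gY : Y ⊓ V ⟶ Y := homOfLE inf_le_left
    let gV : Y ⊓ V ⟶ V := homOfLE inf_le_right
    have h1 : ModSite.germ (pt x) L (Y ⊓ V) (mk hxW) (smap L gY a) = ModSite.germ (pt x) L Y y a :=
      germ_smap (pt x) gY (mk hxW) a
    refine ⟨ModSite.germRing (pt x) (O := O) (Y ⊓ V) (mk hxW) (pair θ (smap L gY a) (smap N gV t₀)), ?_⟩
    refine h1.symm.trans ?_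
    refine (congrArg (ModSite.germ (pt x) L (Y ⊓ V) (mk hxW)) (eq_pair_smul θ s₀ t₀ h₀ gV (smap L gY a))).trans ?_
    rw [ModSite.germ_smul, germ_smap]
    rfl
  have hfree : ∀ r : ModSite.stalkRing (pt x) O, r • e = 0 → r = 0 := fun r hr => by
    obtain ⟨Y, y, r', rfl⟩ := (pt x).toPresheafFiber_jointly_surjective (P := O.obj) r
    have hxW : x ∈ Y ⊓ V := ⟨y.down.down, v.down.down⟩
    let gY : Y ⊓ V ⟶ Y := homOfLE inf_le_left
    let gV : Y ⊓ V ⟶ V := homOfLE inf_le_right
    have h2 : ∀ _ : Unit, ModSite.germ (pt x) L (Y ⊓ V) (mk hxW) (rmap O gY r' • smap L gV s₀) =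
        ModSite.germ (pt x) L (Y ⊓ V) (mk hxW) 0 := fun _ => by
      rw [ModSite.germ_smul, germ_smap, germRing_rmap]
      exact hr.trans (map_zero ((pt x).toPresheafFiber (Y ⊓ V) (mk hxW) (ModSite.toAb L).obj).hom).symm
    obtain ⟨W, g, w, hw, hW⟩ := exists_nbhd_eq (pt x) (Y ⊓ V) (mk hxW) _ _ h2
    have h3 := hW ()
    rw [map_zero, smap_smul] at h3
    have h5 : ∀ q : O.obj.obj (op W), pair θ (q • smap L g (smap L gV s₀)) (smap N g (smap N gV t₀)) = q :=
      fun q => by rw [pair_smul_left, pair_smap, pair_smap, h₀, map_one, map_one, mul_one]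
    have h4 : rmap O g (rmap O gY r') = 0 := by
      rw [← h5 (rmap O g (rmap O gY r')), h3, ← zero_smul (O.obj.obj (op W)) (smap L g (smap L gV s₀)), h5]
    show ModSite.germRing (pt x) (O := O) Y y r' = 0
    refine ((germRing_rmap (pt x) (g ≫ gY) w r').symm.trans ?_)
    rw [rmap_comp, h4]
    exact map_zero ((pt x).toPresheafFiber W w O.obj).hom
  have hs : ModSite.germ (pt x) L V v s = f • e := by
    have h := eq_pair_smul θ s₀ t₀ h₀ (𝟙 V) s
    rw [smap_id, smap_id] at h
    rw [hf, he, ← ModSite.germ_smul, ← h]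
  refine ⟨⟨fun hn => ?_, fun hu hmem => ?_⟩, fun hu => ?_⟩
  · by_contra hu
    exact hn (hs ▸ Submodule.smul_mem_smul (I := IsLocalRing.maximalIdeal _) (N := ⊤)
      (r := f) (n := e) hu trivial)
  · have hle : (IsLocalRing.maximalIdeal (ModSite.stalkRing (pt x) O)) •
        (⊤ : Submodule (ModSite.stalkRing (pt x) O) (ModSite.stalkAb (pt x) L)) ≤
        Submodule.map (LinearMap.toSpanSingleton (ModSite.stalkRing (pt x) O) (ModSite.stalkAb (pt x) L) e)
          (IsLocalRing.maximalIdeal (ModSite.stalkRing (pt x) O)) := by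
      refine Submodule.smul_le.2 fun r hr m _ => ?_
      obtain ⟨q, rfl⟩ := hgen m
      exact ⟨r * q, Ideal.mul_mem_right _ _ hr, mul_smul r q e⟩
    obtain ⟨q, hq, hq'⟩ := hle hmem
    rw [LinearMap.toSpanSingleton_apply, hs, ← sub_eq_zero, ← sub_smul] at hq'
    exact (IsLocalRing.mem_maximalIdeal _).1 (sub_eq_zero.1 (hfree _ hq') ▸ hq) hu
  · refine ⟨fun r r' h => ?_, fun m => ?_⟩
    · simp only [hs, ← mul_smul] at h
      rw [← sub_eq_zero, ← sub_smul] at h
      exact hu.mul_left_injective (sub_eq_zero.1 (hfree _ h))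
    · obtain ⟨q, rfl⟩ := hgen m
      obtain ⟨u, hu'⟩ := hu.exists_left_inv
      exact ⟨q * u, show (q * u) • ModSite.germ (pt x) L V v s = q • e by rw [hs, ← mul_smul, mul_assoc, hu', mul_one]⟩

include θ in
/-- The generating locus of a section of an invertible module is open, and there the section generates freely. -/
theorem isOpen_generating_locus (hO : ∀ x : X, IsLocalRing (ModSite.stalkRing (pt x) O)) (U : Opens X)
    (s : ModSite.sect L U) :
    IsOpen {x : X | ∃ hx : x ∈ U, ModSite.germ (pt x) L U ⟨⟨hx⟩⟩ s ∉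
        (@IsLocalRing.maximalIdeal (ModSite.stalkRing (pt x) O) _ (hO x)) •
          (⊤ : Submodule (ModSite.stalkRing (pt x) O) (ModSite.stalkAb (pt x) L))} ∧
      ∀ (x : X) (hx : x ∈ U), ModSite.germ (pt x) L U ⟨⟨hx⟩⟩ s ∉
          (@IsLocalRing.maximalIdeal (ModSite.stalkRing (pt x) O) _ (hO x)) •
            (⊤ : Submodule (ModSite.stalkRing (pt x) O) (ModSite.stalkAb (pt x) L)) →
        Function.Bijective (fun a : ModSite.stalkRing (pt x) O => a • ModSite.germ (pt x) L U ⟨⟨hx⟩⟩ s) := by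
  refine ⟨isOpen_iff_forall_mem_open.2 fun x ⟨hx, hn⟩ => ?_, fun x hx hn => ?_⟩
  · obtain ⟨V₀, hxV₀, s₁, t₁, h₁⟩ := exists_pair_eq_one θ hO x
    let V : Opens X := U ⊓ V₀
    let gU : V ⟶ U := homOfLE inf_le_left
    let g₀ : V ⟶ V₀ := homOfLE inf_le_right
    have h₀ : pair θ (smap L g₀ s₁) (smap N g₀ t₁) = 1 := by rw [pair_smap, h₁, map_one]
    have key : ∀ y (hy : y ∈ V), ModSite.germ (pt y) L V (mk hy) (smap L gU s) =
        ModSite.germ (pt y) L U ⟨⟨hy.1⟩⟩ s := fun y hy => germ_smap (pt y) gU (mk hy) s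
    have hxV : x ∈ V := ⟨hx, hxV₀⟩
    have hu := (germ_notMem_iff θ hO _ _ h₀ (smap L gU s) x (mk hxV)).1.1 ((key x hxV).symm ▸ hn)
    set f := pair θ (smap L gU s) (smap N g₀ t₁)
    obtain ⟨u, hu'⟩ := hu.exists_left_inv
    obtain ⟨Y, y, r, hr⟩ := (pt x).toPresheafFiber_jointly_surjective (P := O.obj) u
    have hxW : x ∈ Y ⊓ V := ⟨y.down.down, hxV⟩
    let gY : Y ⊓ V ⟶ Y := homOfLE inf_le_left
    let gV : Y ⊓ V ⟶ V := homOfLE inf_le_right
    have hprod : ∀ _ : Unit, ModSite.germRing (pt x) (O := O) (Y ⊓ V) (mk hxW) (rmap O gY r * rmap O gV f) =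
        ModSite.germRing (pt x) (O := O) (Y ⊓ V) (mk hxW) 1 := fun _ => by
      refine (map_mul ((pt x).toPresheafFiber (Y ⊓ V) (mk hxW) O.obj).hom _ _).trans ?_
      refine Eq.trans ?_ (map_one ((pt x).toPresheafFiber (Y ⊓ V) (mk hxW) O.obj).hom).symm
      refine Eq.trans ?_ hu'
      exact congrArg₂ (· * ·) ((germRing_rmap (pt x) gY (mk hxW) r).trans hr) (germRing_rmap (pt x) gV (mk hxW) _)
    obtain ⟨W, g, w, -, hW⟩ := exists_nbhd_eqRing (pt x) (Y ⊓ V) (mk hxW) _ _ hprod
    have h := hW ()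
    rw [map_mul, map_one] at h
    refine ⟨W, fun z hz => ?_, W.isOpen, w.down.down⟩
    have hzV : z ∈ V := (g.le hz).2
    refine ⟨hzV.1, (key z hzV) ▸ (germ_notMem_iff θ hO _ _ h₀ (smap L gU s) z (mk hzV)).1.2 ?_⟩
    refine IsUnit.of_mul_eq_one_right (ModSite.germRing (pt z) (O := O) W (mk hz) (rmap O g (rmap O gY r))) ?_
    refine Eq.trans ?_ ((congrArg (ModSite.germRing (pt z) (O := O) W (mk hz)) h).trans
      (map_one ((pt z).toPresheafFiber W (mk hz) O.obj).hom))
    refine Eq.trans ?_ (map_mul ((pt z).toPresheafFiber W (mk hz) O.obj).hom _ _).symm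
    refine congrArg (_ * ·) ?_
    refine ((germRing_rmap (pt z) g (mk hz) (rmap O gV f)).trans (germRing_rmap (pt z) gV _ f)).symm.trans ?_
    rfl
  · obtain ⟨V₀, hxV₀, s₁, t₁, h₁⟩ := exists_pair_eq_one θ hO x
    let V : Opens X := U ⊓ V₀
    let gU : V ⟶ U := homOfLE inf_le_left
    let g₀ : V ⟶ V₀ := homOfLE inf_le_right
    have h₀ : pair θ (smap L g₀ s₁) (smap N g₀ t₁) = 1 := by rw [pair_smap, h₁, map_one]
    have hxV : x ∈ V := ⟨hx, hxV₀⟩
    have key : ModSite.germ (pt x) L V (mk hxV) (smap L gU s) = ModSite.germ (pt x) L U ⟨⟨hx⟩⟩ s :=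
      germ_smap (pt x) gU (mk hxV) s
    rw [← key] at hn ⊢
    have H := germ_notMem_iff θ hO _ _ h₀ (smap L gU s) x (mk hxV)
    exact H.2 (H.1.1 hn)

end Groth.Agent.InvPair16
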