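import Groth.Prelude.Def_ModSite
import Groth.Agent.Lib.CohFound16.ClosedEmb
import Groth.Agent.Lib.ModFlat16.Criterion

/-! Modules on a closed ringed subspace: locality, direct image, exactness, full faithfulness. -/

set_option autoImplicit false
set_option linter.style.haveILetI false
set_option linter.unusedSectionVars false
set_option backward.isDefEq.respectTransparency false
set_option backward.isDefEq.respectTransparency.types false

universe u

open CategoryTheory CategoryTheory.Limits TopologicalSpace Opposite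

noncomputable section

namespace Groth.Agent.ClosedMod16

open Groth.Agent.ModFlat16

variable {X : TopCat.{u}} {O : TopCat.Sheaf CommRingCat.{u} X}

/-- Restriction of a function. -/
abbrev rs (O : TopCat.Sheaf CommRingCat.{u} X) {V U : Opens X} (h : V ≤ U) :
    O.obj.obj (op U) →+* O.obj.obj (op V) := rmap O (homOfLE h)

/-- Restriction of a section of a module. -/
abbrev ss (F : ModSite.Mod O) {V U : Opens X} (h : V ≤ U) : ModSite.sect F U →+ ModSite.sect F V :=
  smap F (homOfLE h)

theorem rs_rs {U V W : Opens X} (h : V ≤ U) (k : W ≤ V) (a : O.obj.obj (op U)) :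
    rs O k (rs O h a) = rs O (k.trans h) a := (rmap_comp (homOfLE h) (homOfLE k) a).symm

theorem ss_ss {F : ModSite.Mod O} {U V W : Opens X} (h : V ≤ U) (k : W ≤ V) (s : ModSite.sect F U) :
    ss F k (ss F h s) = ss F (k.trans h) s := (smap_comp (homOfLE h) (homOfLE k) s).symm

theorem ss_smul {F : ModSite.Mod O} {U V : Opens X} (h : V ≤ U) (a : O.obj.obj (op U)) (s : ModSite.sect F U) :
    ss F h (a • s) = rs O h a • ss F h s := smap_smul (homOfLE h) a s

theorem ss_self {F : ModSite.Mod O} {U : Opens X} (h : U ≤ U) (s : ModSite.sect F U) : ss F h s = s :=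
  smap_id s

theorem rs_self {U : Opens X} (h : U ≤ U) (a : O.obj.obj (op U)) : rs O h a = a := by
  show (O.obj.map (𝟙 (op U))).hom a = a
  rw [CategoryTheory.Functor.map_id]
  rfl

/-- Sections of a sheaf of modules are determined locally. -/
theorem ext_locally {F : ModSite.Mod O} {U : Opens X} (s t : ModSite.sect F U)
    (h : ∀ x ∈ U, ∃ (V : Opens X) (hV : V ≤ U), x ∈ V ∧ ss F hV s = ss F hV t) : s = t := by
  choose V hV hx he using h
  exact TopCat.Sheaf.eq_of_locally_eq' (ModSite.toAb F) (fun x : U => V x.1 x.2) U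
    (fun x => homOfLE (hV x.1 x.2)) (fun x hxU => Opens.mem_iSup.2 ⟨⟨x, hxU⟩, hx x hxU⟩) s t
    fun x => he x.1 x.2

/-- Compatible sections of a sheaf of modules glue. -/
theorem glue {F : ModSite.Mod O} {U : Opens X} {ι : Type u} (V : ι → Opens X) (hV : ∀ k, V k ≤ U)
    (hcov : ∀ x ∈ U, ∃ k, x ∈ V k) (s : ∀ k, ModSite.sect F (V k))
    (hs : ∀ k l, ss F (inf_le_left : V k ⊓ V l ≤ V k) (s k) = ss F (inf_le_right : V k ⊓ V l ≤ V l) (s l)) :
    ∃ t : ModSite.sect F U, ∀ k, ss F (hV k) t = s k := by
  obtain ⟨t, ht, -⟩ := TopCat.Sheaf.existsUnique_gluing' (ModSite.toAb F) V U (fun k => homOfLE (hV k))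
    (fun x hxU => Opens.mem_iSup.2 (hcov x hxU)) s (fun k l => hs k l)
  exact ⟨t, ht⟩

variable {Z : TopCat.{u}} (i : Z ⟶ X) {O_Z : TopCat.Sheaf CommRingCat.{u} Z}
  (c : O ⟶ ((TopologicalSpace.Opens.map i).sheafPushforwardContinuous CommRingCat.{u}
    (Opens.grothendieckTopology X) (Opens.grothendieckTopology Z)).obj O_Z)

/-- The morphism of ringed sites. -/
abbrev gm : ModSite.RMor O_Z O := ModSite.RMor.ofFlat (TopologicalSpace.Opens.map i) c

/-- The comorphism on sections. -/
abbrev cm (U : Opens X) : O.obj.obj (op U) →+* O_Z.obj.obj (op ((Opens.map i).obj U)) :=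
  (c.hom.app (op U)).hom

theorem preim_mono {U V : Opens X} (h : V ≤ U) : (Opens.map i).obj V ≤ (Opens.map i).obj U :=
  fun _ hz => h hz

theorem cm_rs {U V : Opens X} (h : V ≤ U) (a : O.obj.obj (op U)) :
    cm i c V (rs O h a) = rs O_Z (preim_mono i h) (cm i c U a) :=
  NatTrans.naturality_apply c.hom (homOfLE h).op a

/-- Functions on the subspace lift locally. -/
theorem exists_lift (hc : Sheaf.IsLocallySurjective c) {U : Opens X}
    (b : O_Z.obj.obj (op ((Opens.map i).obj U))) {x : X} (hx : x ∈ U) :
    ∃ (V : Opens X) (hV : V ≤ U) (a : O.obj.obj (op V)), x ∈ V ∧ cm i c V a = rs O_Z (preim_mono i hV) b := by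
  obtain ⟨V, hV, ⟨a, ha⟩, hxV⟩ := (TopCat.Presheaf.isLocallySurjective_iff c.hom).1 hc U b x hx
  exact ⟨V, hV, a, hxV, ha⟩

/-- The action of the base on a direct image. -/
theorem smul_push {M : ModSite.Mod O_Z} {U : Opens X} (a : O.obj.obj (op U))
    (s : ModSite.sect ((gm i c).push.obj M) U) :
    (show ModSite.sect M ((Opens.map i).obj U) from a • s) =
      cm i c U a • (show ModSite.sect M ((Opens.map i).obj U) from s) := rfl

/-- Direct image along a closed embedding preserves finite colimits. -/
theorem preservesFiniteColimits_push (hi : Topology.IsClosedEmbedding i) :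
    PreservesFiniteColimits (gm i c).push := by
  haveI : PreservesFiniteColimits (SheafOfModules.toSheaf.{u} (ModSite.ringSh O_Z)) :=
    haveI : PreservesColimitsOfSize.{u, u} (SheafOfModules.toSheaf.{u} (ModSite.ringSh O_Z)) := ⟨inferInstance⟩
    PreservesColimitsOfSize.preservesFiniteColimits _
  haveI : (gm i c).push.IsRightAdjoint := inferInstance
  haveI : PreservesFiniteLimits (gm i c).push := inferInstance
  refine (Functor.preservesFiniteColimits_iff_forall_exact_map_and_epi _).2 fun S hS => ?_
  haveI := hS.epi_g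
  refine ⟨((gm i c).push.preservesFiniteLimits_iff_forall_exact_map_and_mono.1 inferInstance S hS).1, ?_⟩
  haveI : Epi ((SheafOfModules.toSheaf.{u} (ModSite.ringSh O_Z)).map S.g) := inferInstance
  haveI := Groth.Agent.CohFound16.push_preservesEpimorphisms i hi
  haveI : Epi ((SheafOfModules.toSheaf.{u} (ModSite.ringSh O)).map ((gm i c).push.map S.g)) :=
    show Epi ((CohTop.push i).map ((SheafOfModules.toSheaf.{u} (ModSite.ringSh O_Z)).map S.g)) from inferInstance
  exact (SheafOfModules.toSheaf.{u} (ModSite.ringSh O)).epi_of_epi_map inferInstance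

/-- Direct image of abelian sheaves along an embedding is fully faithful. -/
def pushFF (hi : Topology.IsInducing i) : (CohTop.push i).FullyFaithful :=
  haveI := Groth.Agent.CohFound16.isIso_counit i hi
  (TopCat.Sheaf.pullbackPushforwardAdjunction AddCommGrpCat.{u} i).fullyFaithfulROfIsIsoCounit

/-- Direct image along an embedding is faithful. -/
theorem faithful_push (hi : Topology.IsInducing i) : (gm i c).push.Faithful := by
  refine ⟨fun {M N} φ ψ h => (SheafOfModules.toSheaf.{u} (ModSite.ringSh O_Z)).map_injective ?_⟩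
  exact (pushFF i hi).map_injective (congrArg (SheafOfModules.toSheaf.{u} (ModSite.ringSh O)).map h)

/-- Direct image along a closed ringed subspace is full. -/
theorem full_push (hi : Topology.IsInducing i) (hc : Sheaf.IsLocallySurjective c) : (gm i c).push.Full := by
  refine ⟨fun {M N} ψ => ?_⟩
  let α : ModSite.toAb M ⟶ ModSite.toAb N :=
    (pushFF i hi).preimage (X := ModSite.toAb M) (Y := ModSite.toAb N)
      ((SheafOfModules.toSheaf.{u} (ModSite.ringSh O)).map ψ)
  have hα : (CohTop.push i).map α = (SheafOfModules.toSheaf.{u} (ModSite.ringSh O)).map ψ :=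
    (pushFF i hi).map_preimage _
  have key : ∀ (V : Opens X) (s : ModSite.sect M ((Opens.map i).obj V)),
      (show ModSite.sect N ((Opens.map i).obj V) from α.hom.app (op ((Opens.map i).obj V)) s) =
        (show ModSite.sect ((gm i c).push.obj N) V from ψ.val.app (op V) s) := fun V s =>
    ConcreteCategory.congr_hom (NatTrans.congr_app (congrArg InducedCategory.Hom.hom hα) (op V)) s
  have lin : ∀ (W : (Opens Z)ᵒᵖ) (b : O_Z.obj.obj W) (m : ModSite.sect M W.unop),
      (show ModSite.sect N W.unop from α.hom.app W (b • m : ModSite.sect M W.unop)) =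
        b • (show ModSite.sect N W.unop from α.hom.app W m) := by
    intro W b m
    refine ext_locally _ _ fun z hz => ?_
    obtain ⟨U, hU, hUW⟩ := hi.isOpen_iff.1 W.unop.isOpen
    have e : (Opens.map i).obj ⟨U, hU⟩ = W.unop := Opens.ext hUW
    obtain ⟨W, rfl⟩ : ∃ W', W = op W' := ⟨W.unop, rfl⟩
    dsimp only [unop_op] at e hz b m ⊢
    subst e
    obtain ⟨V, hV, a, hzV, ha⟩ := exists_lift i c hc b (x := i z) hz
    refine ⟨(Opens.map i).obj V, preim_mono i hV, hzV, ?_⟩
    have hn : ∀ x : ModSite.sect M ((Opens.map i).obj ⟨U, hU⟩),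
        ss N (preim_mono i hV) (α.hom.app (op ((Opens.map i).obj ⟨U, hU⟩)) x) =
          α.hom.app (op ((Opens.map i).obj V)) (ss M (preim_mono i hV) x) := fun x =>
      (NatTrans.naturality_apply α.hom (homOfLE (preim_mono i hV)).op x).symm
    rw [hn, ss_smul, ss_smul, hn, ← ha]
    refine Eq.trans (key V (cm i c V a • ss M (preim_mono i hV) m)) ?_
    refine Eq.trans ?_ (congrArg (cm i c V a • ·) (key V (ss M (preim_mono i hV) m)).symm)
    exact ((ψ.val.app (op V)).hom.map_smul a
      (show ModSite.sect ((gm i c).push.obj M) V from ss M (preim_mono i hV) m))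
  refine ⟨⟨PresheafOfModules.homMk α.hom fun W b m => lin W b m⟩, ?_⟩
  apply (SheafOfModules.toSheaf.{u} (ModSite.ringSh O)).map_injective
  exact hα

/-- Direct images are killed by the functions vanishing on the subspace. -/
theorem smul_eq_zero_of_iso_push {M : ModSite.Mod O_Z} {G : ModSite.Mod O} (e : (gm i c).push.obj M ≅ G)
    {U : Opens X} {a : O.obj.obj (op U)} (ha : cm i c U a = 0) (s : ModSite.sect G U) : a • s = 0 := by
  have h1 : (e.hom.val.app (op U)) ((e.inv.val.app (op U)) s) = s :=
    congrArg (fun q : G ⟶ G => q.val.app (op U) s) e.inv_hom_id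
  have h2 : a • (show ModSite.sect ((gm i c).push.obj M) U from (e.inv.val.app (op U)) s) = 0 := by
    show cm i c U a • (show ModSite.sect M ((Opens.map i).obj U) from (e.inv.val.app (op U)) s) = 0
    rw [ha, zero_smul]
  rw [← h1]
  exact ((e.hom.val.app (op U)).hom.map_smul a _).symm.trans ((congrArg _ h2).trans (map_zero _))

end Groth.Agent.ClosedMod16
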